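import Mathlib
import Groth.Agent.H1JacAbs.Key

/-!
# Families of subfields separating `p`th powers, under field extensions
-/

set_option autoImplicit false
set_option backward.isDefEq.respectTransparency false
set_option backward.isDefEq.respectTransparency.types false

universe u

namespace H1DerP

variable {L : Type u} [Field L] (p : ℕ) {ι : Type u}

/-- A directed family of subfields of `M` containing and cutting out the `p`th powers of `M`. -/
structure IsSep (M : Subfield L) (G : ι → Subfield L) : Prop where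
  dir : ∀ a b, ∃ c, G c ≤ G a ⊓ G b
  le : ∀ i, G i ≤ M
  pow_mem : ∀ i, ∀ x ∈ M, x ^ p ∈ G i
  inter : ∀ x, (∀ i, x ∈ G i) → ∃ a ∈ M, a ^ p = x

variable [Fact p.Prime] [CharP L p] [Nonempty ι] {M : Subfield L} {G : ι → Subfield L}

/-- A family on a field is carried to a finite extension. -/
theorem exists_match_ext (h : IsSep p M G) (M' : IntermediateField M L) [FiniteDimensional M M']
    (y : M') (hy : ∀ a : M', a ^ p ≠ y) :
    ∃ i, (y : L) ∉ Subfield.closure ((G i : Set L) ∪ (fun x : L => x ^ p) '' (M' : Set L)) := by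
  classical
  haveI : CharP M' p := charP_of_injective_ringHom (f := M'.toSubfield.subtype) Subtype.val_injective p |> fun h =>
    (CharP.charP_iff_prime_eq_zero Fact.out).2 (by
      apply Subtype.ext
      simp [CharP.cast_eq_zero L p])
  haveI : ExpChar M' p := .prime Fact.out
  let j : M →+* M' := algebraMap M M'
  obtain ⟨d, e, he, hd⟩ := H1JacAbs.exists_basis j (by
    have : j.toAlgebra = (IntermediateField.algebra' M' : Algebra M M') := Algebra.algebra_ext _ _ fun _ => rfl
    rw [this]
    infer_instance)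
  let N : Subfield M' := (j.comp (frobenius M p)).fieldRange
  let FF : ι → Subfield M' := fun i => (G i).comap (M'.val : M' →+* L)
  have hdir : ∀ a b, ∃ c, FF c ≤ FF a ⊓ FF b := fun a b => by
    obtain ⟨c, hc⟩ := h.dir a b
    exact ⟨c, fun x hx => ⟨(hc hx).1, (hc hx).2⟩⟩
  have hNF : ∀ i, N ≤ FF i := by
    rintro i _ ⟨x, rfl⟩
    exact h.pow_mem i _ x.2
  have hinf : ∀ x, (∀ i, x ∈ FF i) → x ∈ N := by
    intro x hx
    obtain ⟨a, ha, hax⟩ := h.inter (x : L) hx
    exact ⟨⟨a, ha⟩, Subtype.ext hax⟩
  have hNpow : ∀ x ∈ N, ∃ a, a ^ p = x := by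
    rintro _ ⟨x, rfl⟩
    exact ⟨j x, (map_pow j x p).symm⟩
  have hpow : ∀ a : M', H1JacAbs.Comb N (fun l => e l ^ p) (a ^ p) := by
    intro a
    obtain ⟨c, hc, rfl⟩ := hd a
    refine ⟨fun l => c l ^ p, fun l => ?_, ?_⟩
    · obtain ⟨x, hx⟩ := hc l
      exact ⟨x, by rw [RingHom.comp_apply, frobenius_def, map_pow, hx]⟩
    · rw [sum_pow_char]
      exact Finset.sum_congr rfl fun l _ => (mul_pow _ _ _).symm
  obtain ⟨i, hi⟩ := H1JacAbs.exists_match p FF hdir N hNF hinf hNpow e hpow (fun _ : Fin 1 => y)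
  refine ⟨i, fun hmem => ?_⟩
  -- a derivation moving `y`
  obtain ⟨δ₀, hδ₀⟩ := H1JacAbs.exists_derivation_one p (frobenius M' p).fieldRange
    (fun a => ⟨⟨a ^ p, a, rfl⟩, rfl⟩) y (by
      rintro ⟨⟨_, a, rfl⟩, hb⟩
      exact hy a hb)
  obtain ⟨δ, hδG, hδy⟩ := hi i le_rfl
    (Derivation.mk' δ₀.toLinearMap.toAddMonoidHom.toIntLinearMap fun a b => δ₀.leibniz a b)
  have hker : (Subfield.closure ((G i : Set L) ∪ (fun x : L => x ^ p) '' (M' : Set L))) ≤
      (H1JacAbs.kerField δ).map (M'.val : M' →+* L) := by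
    refine Subfield.closure_le.2 ?_
    rintro x (hx | ⟨a, ha, rfl⟩)
    · exact ⟨⟨x, M'.algebraMap_mem ⟨x, h.le i hx⟩⟩, hδG _ hx, rfl⟩
    · exact ⟨⟨a, ha⟩ ^ p, H1JacAbs.derivation_pow p δ _, rfl⟩
  obtain ⟨z, hz, hzy⟩ := hker hmem
  obtain rfl : z = y := Subtype.ext hzy
  have h1 : δ z = 1 := (hδy 0).trans hδ₀
  exact one_ne_zero (h1.symm.trans hz)

/-- Adjoining an element. -/
theorem exists_adjoin (h : IsSep p M G) (z : L) :
    ∃ (M' : Subfield L) (G' : ι → Subfield L), IsSep p M' G' ∧ M ≤ M' ∧ z ∈ M' ∧ ∀ i, G i ≤ G' i := by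
  classical
  haveI : CharP M p := (CharP.charP_iff_prime_eq_zero Fact.out).2 (by
    apply Subtype.ext
    simp [CharP.cast_eq_zero L p])
  haveI : ExpChar L p := .prime Fact.out
  set M' := IntermediateField.adjoin M ({z} : Set L) with hM'
  have hMM' : M ≤ M'.toSubfield := fun x hx => M'.algebraMap_mem ⟨x, hx⟩
  have hzM' : z ∈ M'.toSubfield := IntermediateField.mem_adjoin_simple_self M z
  by_cases hz : IsAlgebraic M z
  · haveI : FiniteDimensional M M' := IntermediateField.adjoin.finiteDimensional hz.isIntegral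
    refine ⟨M'.toSubfield, fun i => Subfield.closure ((G i : Set L) ∪ (fun x : L => x ^ p) '' (M' : Set L)),
      ⟨fun a b => ?_, fun i => ?_, fun i x hx => Subfield.subset_closure (Or.inr ⟨x, hx, rfl⟩), fun x hx => ?_⟩,
      hMM', hzM', fun i x hx => Subfield.subset_closure (Or.inl hx)⟩
    · obtain ⟨c, hc⟩ := h.dir a b
      exact ⟨c, le_inf
        (Subfield.closure_mono (Set.union_subset_union_left _ fun y hy => (hc hy).1))
        (Subfield.closure_mono (Set.union_subset_union_left _ fun y hy => (hc hy).2))⟩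
    · refine Subfield.closure_le.2 ?_
      rintro x (hx | ⟨a, ha, rfl⟩)
      · exact hMM' (h.le i hx)
      · exact pow_mem ha p
    · by_contra hne
      push Not at hne
      have hxM : x ∈ M'.toSubfield := by
        have hle : Subfield.closure ((G (Classical.arbitrary ι) : Set L) ∪ (fun x : L => x ^ p) '' (M' : Set L)) ≤
            M'.toSubfield := Subfield.closure_le.2 (by
          rintro y (hy | ⟨a, ha, rfl⟩)
          · exact hMM' (h.le _ hy)
          · exact pow_mem ha p)
        exact hle (hx _)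
      obtain ⟨i, hi⟩ := exists_match_ext p h M' ⟨x, hxM⟩ fun a ha => hne a a.2 (congrArg Subtype.val ha)
      exact hi (hx i)
  -- transcendental case
  have hzp : ∀ i, z ^ p ∈ Subfield.closure ((G i : Set L) ∪ {z ^ p}) := fun i =>
    Subfield.subset_closure (Or.inr rfl)
  have htr : Function.Injective (Polynomial.aeval (R := M) z) := transcendental_iff_injective.1 hz
  refine ⟨M'.toSubfield, fun i => Subfield.closure ((G i : Set L) ∪ {z ^ p}),
    ⟨fun a b => ?_, fun i => ?_, fun i x hx => ?_, fun x hx => ?_⟩,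
    hMM', hzM', fun i x hx => Subfield.subset_closure (Or.inl hx)⟩
  · obtain ⟨c, hc⟩ := h.dir a b
    exact ⟨c, le_inf
      (Subfield.closure_mono (Set.union_subset_union_left _ fun y hy => (hc hy).1))
      (Subfield.closure_mono (Set.union_subset_union_left _ fun y hy => (hc hy).2))⟩
  · refine Subfield.closure_le.2 ?_
    rintro x (hx | rfl)
    · exact hMM' (h.le i hx)
    · exact pow_mem hzM' p
  · obtain ⟨P, Q, rfl⟩ := (IntermediateField.mem_adjoin_simple_iff (F := M) x).1 hx
    rw [div_pow]
    have hmem : ∀ P : Polynomial M, (Polynomial.aeval z P) ^ p ∈ Subfield.closure ((G i : Set L) ∪ {z ^ p}) := by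
      intro P
      rw [Polynomial.aeval_eq_sum_range, sum_pow_char]
      refine sum_mem fun n _ => ?_
      rw [Algebra.smul_def, mul_pow, ← pow_mul, mul_comm n p, pow_mul]
      exact mul_mem (Subfield.subset_closure (Or.inl (h.pow_mem i _ (P.coeff n).2)))
        (pow_mem (hzp i) n)
    exact div_mem (hmem P) (hmem Q)
  · -- the intersection
    have hxM : x ∈ M' := by
      have hle : Subfield.closure ((G (Classical.arbitrary ι) : Set L) ∪ {z ^ p}) ≤ M'.toSubfield :=
        Subfield.closure_le.2 (by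
          rintro y (hy | rfl)
          · exact hMM' (h.le _ hy)
          · exact pow_mem hzM' p)
      exact hle (hx _)
    obtain ⟨P, Q, rfl⟩ := (IntermediateField.mem_adjoin_simple_iff (F := M) x).1 hxM
    rcases eq_or_ne (Polynomial.aeval z Q) 0 with hQ | hQ
    · exact ⟨0, zero_mem _, by rw [hQ, div_zero, zero_pow (Fact.out : p.Prime).ne_zero]⟩
    set hpoly := P * Q ^ (p - 1) with hhdef
    have hhz : Polynomial.aeval z hpoly = Polynomial.aeval z P / Polynomial.aeval z Q * Polynomial.aeval z Q ^ p := by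
      have hp := (Fact.out : p.Prime).pos
      conv_rhs => rw [show p = (p - 1) + 1 by omega, pow_succ]
      rw [hhdef, map_mul, map_pow]
      field_simp
    have key : ∀ i, (∀ n, ((hpoly.coeff n : M) : L) ∈ G i) ∧ Polynomial.derivative hpoly = 0 := by
      intro i
      let Gm : Subfield M := (G i).comap M.subtype
      let ψ : Polynomial Gm →+* L :=
        (Polynomial.aeval (R := M) z).toRingHom.comp
          ((Polynomial.expand M p).toRingHom.comp (Polynomial.mapRingHom Gm.subtype))
      have hψ : ∀ A : Polynomial Gm, ψ A = Polynomial.aeval z (Polynomial.expand M p (A.map Gm.subtype)) :=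
        fun A => rfl
      have hcl : Subring.closure ((G i : Set L) ∪ {z ^ p}) ≤ ψ.range := Subring.closure_le.2 (by
        rintro y (hy | rfl)
        · exact ⟨Polynomial.C ⟨⟨y, h.le i hy⟩, hy⟩, by simp [hψ]; rfl⟩
        · exact ⟨Polynomial.X, by simp [hψ]⟩)
      have hmem : Polynomial.aeval z hpoly ∈ Subfield.closure ((G i : Set L) ∪ {z ^ p}) := by
        rw [hhz]
        refine mul_mem (hx i) ?_
        rw [Polynomial.aeval_eq_sum_range, sum_pow_char]
        refine sum_mem fun n _ => ?_
        rw [Algebra.smul_def, mul_pow, ← pow_mul, mul_comm n p, pow_mul]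
        exact mul_mem (Subfield.subset_closure (Or.inl (h.pow_mem i _ (Q.coeff n).2)))
          (pow_mem (hzp i) n)
      obtain ⟨a, ha, b, hb, hab⟩ := Subfield.mem_closure_iff.1 hmem
      obtain ⟨A, rfl⟩ := hcl ha
      obtain ⟨B, rfl⟩ := hcl hb
      rcases eq_or_ne (ψ B) 0 with hB | hB
      · rw [hB, div_zero] at hab
        have h0 : hpoly = 0 := htr (by rw [← hab, map_zero])
        exact ⟨fun n => by simp [h0, zero_mem], by simp [h0]⟩
      set A' := Polynomial.expand Gm p A
      set B' := Polynomial.expand Gm p B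
      have heq : hpoly * B'.map Gm.subtype = A'.map Gm.subtype := by
        apply htr
        rw [map_mul, Polynomial.map_expand, Polynomial.map_expand, ← hψ, ← hψ, ← hab, div_mul_cancel₀ _ hB]
      have hB' : B'.map Gm.subtype ≠ 0 := by
        intro h0
        apply hB
        rw [hψ, ← Polynomial.map_expand, h0, map_zero]
      obtain ⟨Cq, hC⟩ : B' ∣ A' := (Polynomial.map_dvd_map' Gm.subtype).1 ⟨hpoly, by rw [← heq, mul_comm]⟩
      have hh : hpoly = Cq.map Gm.subtype := by
        apply mul_right_cancel₀ hB'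
        rw [heq, hC, Polynomial.map_mul, mul_comm]
      refine ⟨fun n => ?_, ?_⟩
      · rw [hh, Polynomial.coeff_map]
        exact (Cq.coeff n).2
      · have h1 := congrArg Polynomial.derivative heq
        have hd : ∀ A : Polynomial Gm, Polynomial.derivative ((Polynomial.expand Gm p A).map Gm.subtype) = 0 := fun A => by
          rw [Polynomial.map_expand, Polynomial.derivative_expand, CharP.cast_eq_zero]
          simp
        rw [Polynomial.derivative_mul, hd, hd, mul_zero, add_zero] at h1
        exact (mul_eq_zero.1 h1).resolve_right hB'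
    have hexp := Polynomial.expand_contract p (key (Classical.arbitrary ι)).2 (Fact.out : p.Prime).ne_zero
    have hcoef : ∀ n, ∃ a : M, a ^ p = hpoly.coeff n := fun n => by
      obtain ⟨a, ha, hae⟩ := h.inter _ fun i => (key i).1 n
      exact ⟨⟨a, ha⟩, Subtype.ext hae⟩
    obtain ⟨rt, hrt⟩ : ∃ rt : Polynomial M, rt.map (frobenius M p) = Polynomial.contract p hpoly := by
      rw [← Polynomial.mem_lifts, Polynomial.lifts_iff_coeff_lifts]
      intro n
      rw [Polynomial.coeff_contract (Fact.out : p.Prime).ne_zero]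
      obtain ⟨a, ha⟩ := hcoef (n * p)
      exact ⟨a, ha⟩
    have hroot : hpoly = rt ^ p := by
      rw [← hexp, ← hrt, ← Polynomial.map_expand, Polynomial.map_frobenius_expand]
    refine ⟨Polynomial.aeval z rt / Polynomial.aeval z Q, ?_, ?_⟩
    · exact (IntermediateField.mem_adjoin_simple_iff (F := M) _).2 ⟨rt, Q, rfl⟩
    · rw [div_pow, ← map_pow, ← hroot, hhz, mul_div_cancel_right₀ _ (pow_ne_zero _ hQ)]

/-- Adjoining finitely many elements. -/
theorem exists_adjoin_list (h : IsSep p M G) (l : List L) :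
    ∃ (M' : Subfield L) (G' : ι → Subfield L), IsSep p M' G' ∧ M ≤ M' ∧ (∀ z ∈ l, z ∈ M') ∧ ∀ i, G i ≤ G' i := by
  induction l with
  | nil => exact ⟨M, G, h, le_rfl, by simp, fun i => le_rfl⟩
  | cons z l ih =>
    obtain ⟨M', G', h', hMM', hl, hG⟩ := ih
    obtain ⟨M'', G'', h'', hMM'', hz, hG'⟩ := exists_adjoin p h' z
    refine ⟨M'', G'', h'', hMM'.trans hMM'', ?_, fun i => (hG i).trans (hG' i)⟩
    intro w hw
    rcases List.mem_cons.1 hw with rfl | hw
    · exact hz
    · exact hMM'' (hl w hw)

end H1DerP
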